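import Groth.Prelude.Def_OmegaPn

set_option autoImplicit false
universe u

open CategoryTheory CategoryTheory.Limits AlgebraicGeometry TopologicalSpace Opposite

namespace Groth.Agent.PModLib

open Scheme.Modules

theorem isEquivalence_pushforward {X Y : Scheme.{u}} (g : X ⟶ Y) [IsIso g] :
    (Scheme.Modules.pushforward g).IsEquivalence :=
  (CategoryTheory.Equivalence.mk (Scheme.Modules.pushforward g) (Scheme.Modules.pushforward (inv g))
    ((pushforwardId X).symm ≪≫ pushforwardCongr (IsIso.hom_inv_id g).symm ≪≫ (pushforwardComp g (inv g)).symm)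
    (pushforwardComp (inv g) g ≪≫ pushforwardCongr (IsIso.inv_hom_id g) ≪≫ pushforwardId Y)).isEquivalence_functor

theorem isIso_unit_app {X Y : Scheme.{u}} (g : X ⟶ Y) [IsIso g] (F : Y.Modules) :
    IsIso ((pullbackPushforwardAdjunction g).unit.app F) := by
  haveI := isEquivalence_pushforward g
  haveI := (pullbackPushforwardAdjunction g).isEquivalence_left_of_isEquivalence_right
  infer_instance

theorem pullSect_bijective {X Y : Scheme.{u}} (g : X ⟶ Y) [IsIso g] (F : Y.Modules) (U : Y.Opens) :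
    Function.Bijective (OmegaSh.pullSect g F U) := by
  haveI := isIso_unit_app g F
  haveI : IsIso ((Scheme.Modules.Hom.mapPresheaf ((pullbackPushforwardAdjunction g).unit.app F))) :=
    Functor.map_isIso (Scheme.Modules.toPresheaf Y) ((pullbackPushforwardAdjunction g).unit.app F)
  haveI : IsIso ((Scheme.Modules.Hom.mapPresheaf ((pullbackPushforwardAdjunction g).unit.app F)).app (op U)) :=
    inferInstance
  exact ConcreteCategory.bijective_of_isIso ((Scheme.Modules.Hom.mapPresheaf ((pullbackPushforwardAdjunction g).unit.app F)).app (op U))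

/-- The transition map between `a_* b^* F` and `a'_* b'^* F` when `(a', b') = j ≫ (a, b)`. -/
theorem exists_trans {N M X : Scheme.{u}} (j : N ⟶ M) (a b : M ⟶ X) (a' b' : N ⟶ X)
    (ha : j ≫ a = a') (hb : j ≫ b = b') (hm : ∀ U, a ⁻¹ᵁ U = b ⁻¹ᵁ U) (hn : ∀ U, a' ⁻¹ᵁ U = b' ⁻¹ᵁ U)
    (F : X.Modules) :
    ∃ τ : (Scheme.Modules.pushforward a).obj ((Scheme.Modules.pullback b).obj F) ⟶
        (Scheme.Modules.pushforward a').obj ((Scheme.Modules.pullback b').obj F),
      ∀ (U : X.Opens) (t : Γ(F, U)),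
        τ.app U (((Scheme.Modules.pullback b).obj F).presheaf.map (homOfLE (hm U).le).op
          (OmegaSh.pullSect b F U t)) =
        ((Scheme.Modules.pullback b').obj F).presheaf.map (homOfLE (hn U).le).op
          (OmegaSh.pullSect b' F U t) := by
  subst ha hb
  let g : F ⟶ (Scheme.Modules.pushforward b).obj ((Scheme.Modules.pushforward j).obj
      ((Scheme.Modules.pullback (j ≫ b)).obj F)) :=
    (pullbackPushforwardAdjunction (j ≫ b)).unit.app F ≫ (pushforwardComp j b).inv.app _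
  let τ0 := ((pullbackPushforwardAdjunction b).homEquiv F _).symm g
  have hτ0 : (pullbackPushforwardAdjunction b).unit.app F ≫ (Scheme.Modules.pushforward b).map τ0 = g :=
    ((pullbackPushforwardAdjunction b).homEquiv_unit (f := τ0)).symm.trans (Equiv.apply_symm_apply _ _)
  refine ⟨(Scheme.Modules.pushforward a).map τ0 ≫ (pushforwardComp j a).hom.app _, fun U t => ?_⟩
  have h1 : τ0.app (b ⁻¹ᵁ U) (OmegaSh.pullSect b F U t) = OmegaSh.pullSect (j ≫ b) F U t :=
    congr($(congrArg (fun φ => Scheme.Modules.Hom.app φ U) hτ0) t)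
  have h2 := congr($((Scheme.Modules.Hom.mapPresheaf τ0).naturality (homOfLE (hm U).le).op)
    (OmegaSh.pullSect b F U t))
  refine Eq.trans h2 ?_
  show ((Scheme.Modules.pushforward j).obj ((Scheme.Modules.pullback (j ≫ b)).obj F)).presheaf.map _
    (τ0.app (b ⁻¹ᵁ U) (OmegaSh.pullSect b F U t)) = _
  rw [h1]
  rfl

variable {X S : Scheme.{u}} (f : X ⟶ S)

theorem map_pr1 {n m : ℕ} (h : n ≤ m) :
    PrinPart.infNbhdMap (PrinPart.diagCl f) h ≫ PrinPart.pr1 f m = PrinPart.pr1 f n := by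
  simp [PrinPart.pr1, PrinPart.nbhdι]

theorem map_pr2 {n m : ℕ} (h : n ≤ m) :
    PrinPart.infNbhdMap (PrinPart.diagCl f) h ≫ PrinPart.pr2 f m = PrinPart.pr2 f n := by
  simp [PrinPart.pr2, PrinPart.nbhdι]

/-- Transition map of principal parts. -/
theorem exists_PMod_map (F : X.Modules) {n m : ℕ} (h : n ≤ m) :
    ∃ τ : PrinPart.PMod f m F ⟶ PrinPart.PMod f n F, ∀ (U : X.Opens) (t : Γ(F, U)),
      τ.app U (PrinPart.dP f m F U t) = PrinPart.dP f n F U t :=
  exists_trans _ _ _ _ _ (map_pr1 f h) (map_pr2 f h) (PrinPart.preimage_pr1 f m)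
    (PrinPart.preimage_pr1 f n) F

theorem isIso_toNbhd_zero : IsIso (PrinPart.toNbhd f 0) := by
  haveI : IsIso (Scheme.IdealSheafData.inclusion
      (PrinPart.ker_pow_succ_le (PrinPart.diagCl f) 0)) := by
    have e : (PrinPart.diagCl f).ker ^ (0 + 1) = (PrinPart.diagCl f).ker := pow_one _
    exact ⟨Scheme.IdealSheafData.inclusion e.ge,
      by simp, by simp⟩
  exact (inferInstance : IsIso ((PrinPart.diagCl f).toImage ≫ Scheme.IdealSheafData.inclusion
    (PrinPart.ker_pow_succ_le (PrinPart.diagCl f) 0)))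

theorem pr1_zero : PrinPart.pr1 f 0 = PrinPart.pr2 f 0 := by
  haveI := isIso_toNbhd_zero f
  rw [← cancel_epi (PrinPart.toNbhd f 0), PrinPart.toNbhd_pr1, PrinPart.toNbhd_pr2]

theorem isIso_pr2_zero : IsIso (PrinPart.pr2 f 0) := by
  haveI := isIso_toNbhd_zero f
  exact IsIso.of_isIso_fac_left (PrinPart.toNbhd_pr2 f 0)

theorem dP_zero_bijective (F : X.Modules) (U : X.Opens) :
    Function.Bijective (PrinPart.dP f 0 F U) := by
  haveI := isIso_pr2_zero f
  have h2 := pullSect_bijective (PrinPart.pr2 f 0) F U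
  have : IsIso (homOfLE (PrinPart.preimage_pr1 f 0 U).le).op :=
    ⟨(homOfLE (PrinPart.preimage_pr1 f 0 U).ge).op, Subsingleton.elim _ _, Subsingleton.elim _ _⟩
  haveI : IsIso (((Scheme.Modules.pullback (PrinPart.pr2 f 0)).obj F).presheaf.map
      (homOfLE (PrinPart.preimage_pr1 f 0 U).le).op) := Functor.map_isIso _ _
  have h1 := ConcreteCategory.bijective_of_isIso (((Scheme.Modules.pullback (PrinPart.pr2 f 0)).obj F).presheaf.map
      (homOfLE (PrinPart.preimage_pr1 f 0 U).le).op)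
  exact h1.comp h2

theorem dP_zero_smul (F : X.Modules) (U : X.Opens) (a : Γ(X, U)) (t : Γ(F, U)) :
    PrinPart.dP f 0 F U (a • t) = a • PrinPart.dP f 0 F U t := by
  rw [PrinPart.dP_apply, PrinPart.dP_apply, OmegaSh.pullSect_smul, Scheme.Modules.map_smul]
  refine Eq.trans ?_ (rfl : ((PrinPart.pr1 f 0).app U a) •
    (((Scheme.Modules.pullback (PrinPart.pr2 f 0)).obj F).presheaf.map (homOfLE (PrinPart.preimage_pr1 f 0 U).le).op
      (OmegaSh.pullSect (PrinPart.pr2 f 0) F U t)) = _)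
  congr 1
  have h1 : ∀ (g g' : PrinPart.nbhd f 0 ⟶ X) (_ : g = g') (e : g ⁻¹ᵁ U ≤ g' ⁻¹ᵁ U),
      (PrinPart.nbhd f 0).presheaf.map (homOfLE e).op (g'.app U a) = g.app U a := by
    intro g g' hg e
    subst hg
    simp
  exact h1 _ _ (pr1_zero f) _

end Groth.Agent.PModLib

namespace Groth.Agent.PModLib

/-- An `O`-linear morphism of abelian presheaves as a morphism of modules. -/
theorem exists_hom_of_linear {X : Scheme.{u}} {F G : X.Modules} (D : F.presheaf ⟶ G.presheaf)
    (h : ∀ (U : X.Opens) (a : Γ(X, U)) (t : Γ(F, U)), D.app (op U) (a • t) = a • D.app (op U) t) :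
    ∃ φ : F ⟶ G, ∀ (U : X.Opens) (t : Γ(F, U)), φ.app U t = D.app (op U) t :=
  ⟨⟨PresheafOfModules.homMk D (fun U r t => h U.unop r t)⟩, fun _ _ => rfl⟩

theorem isDiffOpLE_zero_iff {X S : Scheme.{u}} (f : X ⟶ S) (F G : X.Modules) (D : F.presheaf ⟶ G.presheaf) :
    PrinPart.IsDiffOpLE f F G 0 D ↔
      ∀ (U : X.Opens) (a : Γ(X, U)) (t : Γ(F, U)), D.app (op U) (a • t) = a • D.app (op U) t := by
  constructor
  · rintro ⟨u, hu⟩ U a t
    rw [hu, hu, dP_zero_smul, Scheme.Modules.Hom.app_smul]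
  · intro h
    obtain ⟨e, he⟩ := exists_hom_of_linear (PrinPart.dPHom f 0 F) (fun U a t => dP_zero_smul f F U a t)
    obtain ⟨φ, hφ⟩ := exists_hom_of_linear D h
    haveI : IsIso e := by
      rw [Scheme.Modules.Hom.isIso_iff_isIso_app]
      intro U
      rw [ConcreteCategory.isIso_iff_bijective]
      have : ⇑(ConcreteCategory.hom (e.app U)) = PrinPart.dP f 0 F U := funext (he U)
      rw [this]
      exact dP_zero_bijective f F U
    refine ⟨inv e ≫ φ, fun U t => ?_⟩
    have h1 : (inv e).app U (e.app U t) = t :=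
      congr($(congrArg (fun ψ => Scheme.Modules.Hom.app ψ U) (IsIso.hom_inv_id e)) t)
    rw [he] at h1
    show D.app (op U) t = φ.app U ((inv e).app U (PrinPart.dP f 0 F U t))
    exact ((congrArg (φ.app U) h1).trans (hφ U t)).symm

theorem isDiffOpLE_mono {X S : Scheme.{u}} (f : X ⟶ S) (F G : X.Modules) {n m : ℕ} (h : n ≤ m)
    (D : F.presheaf ⟶ G.presheaf) (hD : PrinPart.IsDiffOpLE f F G n D) :
    PrinPart.IsDiffOpLE f F G m D := by
  obtain ⟨u, hu⟩ := hD
  obtain ⟨τ, hτ⟩ := exists_PMod_map f F h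
  refine ⟨τ ≫ u, fun U t => (hu U t).trans ?_⟩
  show u.app U (PrinPart.dP f n F U t) = u.app U (τ.app U (PrinPart.dP f m F U t))
  rw [hτ]

end Groth.Agent.PModLib
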