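import Groth.Prelude.Def_OmegaPn
import Groth.Agent.ModPairLib.Charts

set_option autoImplicit false
universe u

open CategoryTheory CategoryTheory.Limits AlgebraicGeometry TopologicalSpace Opposite

namespace Groth.Agent.PModLib

variable {X Y : Scheme.{u}}

theorem comap_pow_succ (I : Y.IdealSheafData) (f : X ⟶ Y) (n : ℕ) :
    (I ^ (n + 1)).comap f = I.comap f ^ (n + 1) := by
  induction n with
  | zero => simp
  | succ k ih => rw [pow_succ, Groth.Agent.ModPairLib.comap_mul, ih, ← pow_succ]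

theorem ker_of_isPullback {Y' X' : Scheme.{u}} (f : Y ⟶ X) [IsClosedImmersion f]
    (v : X' ⟶ X) (u : Y' ⟶ Y) (f' : Y' ⟶ X') (hsq : IsPullback u f' f v) : f'.ker = f.ker.comap v := by
  rw [← Scheme.IdealSheafData.ker_fst_of_isClosedImmersion f v,
    ← Scheme.Hom.ker_comp_of_isIso hsq.flip.isoPullback.hom (pullback.fst v f), IsPullback.isoPullback_hom_fst]

theorem isPullback_infNbhd {Y' X' : Scheme.{u}} (f : Y ⟶ X) [IsClosedImmersion f]
    (v : X' ⟶ X) (u : Y' ⟶ Y) (f' : Y' ⟶ X') (hsq : IsPullback u f' f v) (n : ℕ)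
    (w : PrinPart.infNbhd f' n ⟶ PrinPart.infNbhd f n)
    (hw : w ≫ PrinPart.infNbhdι f n = PrinPart.infNbhdι f' n ≫ v) :
    IsPullback w (PrinPart.infNbhdι f' n) (PrinPart.infNbhdι f n) v := by
  refine (isPullback_of_isClosedImmersion (f'.ker ^ (n + 1)).subschemeι (f.ker ^ (n + 1)).subschemeι w v
    hw.symm ?_).flip
  rw [Scheme.IdealSheafData.ker_subschemeι, Scheme.IdealSheafData.ker_subschemeι, comap_pow_succ,
    ker_of_isPullback f v u f' hsq]

/-- A morphism carrying `Y ⟶ X` to `Y' ⟶ X'` carries infinitesimal neighbourhoods to each other. -/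
theorem exists_infNbhd_map {Y' X' : Scheme.{u}} (i : Y ⟶ X) (i' : Y' ⟶ X') (g : X ⟶ X') (gZ : Y ⟶ Y')
    (h : gZ ≫ i' = i ≫ g) (n : ℕ) :
    ∃ w : PrinPart.infNbhd i n ⟶ PrinPart.infNbhd i' n,
      w ≫ PrinPart.infNbhdι i' n = PrinPart.infNbhdι i n ≫ g := by
  have h0 : i'.ker ≤ i.ker.map g := by
    rw [Scheme.IdealSheafData.map_ker, ← h]
    exact Scheme.Hom.le_ker_comp _ _
  have h1 : i'.ker ^ (n + 1) ≤ (i.ker ^ (n + 1)).map g := by
    rw [Scheme.IdealSheafData.le_map_iff_comap_le, comap_pow_succ]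
    intro U
    exact Ideal.pow_right_mono (Scheme.IdealSheafData.le_map_iff_comap_le.1 h0 U) _
  exact ⟨Scheme.IdealSheafData.subschemeMap _ _ g h1, Scheme.IdealSheafData.subschemeMap_subschemeι _ _ g h1⟩

variable {S : Scheme.{u}} (f : X ⟶ S)

theorem mono_nbhdι (n : ℕ) : Mono (PrinPart.nbhdι f n) := by
  unfold PrinPart.nbhdι PrinPart.infNbhdι
  infer_instance

theorem exists_swap (n : ℕ) :
    ∃ σ : PrinPart.nbhd f n ⟶ PrinPart.nbhd f n,
      σ ≫ PrinPart.nbhdι f n = PrinPart.nbhdι f n ≫ (pullbackSymmetry f f).hom ∧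
      σ ≫ σ = 𝟙 (PrinPart.nbhd f n) ∧
      σ ≫ PrinPart.pr1 f n = PrinPart.pr2 f n ∧ σ ≫ PrinPart.pr2 f n = PrinPart.pr1 f n ∧
      PrinPart.toNbhd f n ≫ σ = PrinPart.toNbhd f n := by
  let Δ := pullback.diagonal f
  let s := (pullbackSymmetry f f).hom
  have hss : s ≫ s = 𝟙 _ := by apply pullback.hom_ext <;> simp [s]
  have hΔs : Δ ≫ s = Δ := by apply pullback.hom_ext <;> simp [s, Δ]
  let e := Scheme.homeoOfIso (pullbackSymmetry f f)
  have he : ⇑e '' Set.range Δ = Set.range Δ := by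
    rw [← Set.range_comp]
    congr 1
    funext x
    exact congr($(hΔs) x)
  have hcb : ∀ z, z ∈ coborder (Set.range Δ) → e z ∈ coborder (Set.range Δ) := by
    intro z hz
    simp only [coborder, Set.mem_compl_iff] at hz ⊢
    intro hcon
    exact hz ⟨by
      have := hcon.1
      rw [← he, ← Homeomorph.image_closure] at this
      obtain ⟨w, hw, hwe⟩ := this
      rwa [← e.injective hwe], fun hzr => hcon.2 (he ▸ ⟨z, hzr, rfl⟩)⟩
  let τ : (Δ.coborderRange : Scheme.{u}) ⟶ Δ.coborderRange :=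
    IsOpenImmersion.lift Δ.coborderRange.ι (Δ.coborderRange.ι ≫ s) (by
      rintro _ ⟨z, rfl⟩
      simp only [Scheme.Opens.range_ι]
      exact hcb _ z.2)
  have hτ : τ ≫ Δ.coborderRange.ι = Δ.coborderRange.ι ≫ s := IsOpenImmersion.lift_fac _ _ _
  have hd : 𝟙 X ≫ PrinPart.diagCl f = PrinPart.diagCl f ≫ τ := by
    rw [← cancel_mono Δ.coborderRange.ι]
    simp only [Category.id_comp, Category.assoc, hτ]
    rw [Scheme.Hom.liftCoborder_ι_assoc, Scheme.Hom.liftCoborder_ι, hΔs]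
  obtain ⟨σ, hσ⟩ := exists_infNbhd_map (PrinPart.diagCl f) (PrinPart.diagCl f) τ (𝟙 X) hd n
  haveI := mono_nbhdι f n
  have h1 : σ ≫ PrinPart.nbhdι f n = PrinPart.nbhdι f n ≫ s := by
    rw [PrinPart.nbhdι, reassoc_of% hσ, hτ, Category.assoc]
  have hp1 : s ≫ pullback.fst f f = pullback.snd f f := by simp [s]
  have hp2 : s ≫ pullback.snd f f = pullback.fst f f := by simp [s]
  refine ⟨σ, h1, ?_, ?_, ?_, ?_⟩
  · rw [← cancel_mono (PrinPart.nbhdι f n), Category.assoc, h1, reassoc_of% h1, hss]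
    simp
  · rw [PrinPart.pr1, reassoc_of% h1, hp1, PrinPart.pr2]
  · rw [PrinPart.pr2, reassoc_of% h1, hp2, PrinPart.pr1]
  · rw [← cancel_mono (PrinPart.nbhdι f n), Category.assoc, h1, PrinPart.toNbhd_ι_assoc, PrinPart.toNbhd_ι]
    exact hΔs

end Groth.Agent.PModLib
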